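import Mathlib

/-!
# Finite ring maps send closed nowhere dense sets to nowhere dense sets (helper3)
-/

namespace Groth.Agent.H3.QFin

universe u

open PrimeSpectrum

/-- Elements of a minimal prime become nilpotent after multiplying by an element outside. -/
theorem exists_notMem_isNilpotent_mul {S : Type*} [CommRing S] {Q : Ideal S}
    (hQ : Q ∈ minimalPrimes S) {x : S} (hx : x ∈ Q) : ∃ y ∉ Q, IsNilpotent (x * y) := by
  have hQp : Q.IsPrime := hQ.1.1
  have h := IsLocalization.AtPrime.radical_map_of_mem_minimalPrimes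
    (A := Localization.AtPrime Q) Q ⊥ hQ
  have hx' : algebraMap S (Localization.AtPrime Q) x ∈
      (Ideal.map (algebraMap S (Localization.AtPrime Q)) ⊥).radical := by
    rw [h]; exact Ideal.mem_map_of_mem _ hx
  obtain ⟨n, hn⟩ := hx'
  rw [Ideal.map_bot, Ideal.mem_bot, ← map_pow] at hn
  obtain ⟨⟨b, hb⟩, hb'⟩ := (IsLocalization.map_eq_zero_iff Q.primeCompl _ _).1 hn
  refine ⟨b, hb, n + 1, ?_⟩
  have hb'' : b * x ^ n = 0 := hb'
  calc (x * b) ^ (n + 1) = x * b ^ n * (b * x ^ n) := by ring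
    _ = 0 := by rw [hb'']; ring

variable {R S : Type u} [CommRing R] [CommRing S] [Algebra R S]

/-- `Sp I m p`: the fibre of `S/I` at `p` is spanned by at most `m` elements near `p`. -/
def Sp (I : Ideal S) (m : ℕ) (p : Ideal R) : Prop :=
  ∃ (t : Finset S) (u : R), t.card ≤ m ∧ u ∉ p ∧
    ∀ x : S, u • x ∈ Submodule.span R (t : Set S) ⊔ I.restrictScalars R

theorem Sp_erase [DecidableEq S] (I : Ideal S) {t : Finset S} {u : R} {p : Ideal R} [hp : p.IsPrime] (hu : u ∉ p)
    (hx : ∀ x : S, u • x ∈ Submodule.span R (t : Set S) ⊔ I.restrictScalars R)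
    (c₀ : S) (hc₀ : c₀ ∈ t) (σ : R) (hσ : σ ∉ p)
    (h : σ • c₀ ∈ Submodule.span R ((t.erase c₀ : Finset S) : Set S) ⊔ I.restrictScalars R) :
    Sp I (t.card - 1) p := by
  classical
  refine ⟨t.erase c₀, σ * u, by rw [Finset.card_erase_of_mem hc₀],
    fun hh => (hp.mem_or_mem hh).elim hσ hu, fun x => ?_⟩
  set N := Submodule.span R ((t.erase c₀ : Finset S) : Set S) ⊔ I.restrictScalars R with hN
  have key1 : ∀ y ∈ Submodule.span R (t : Set S), σ • y ∈ N := by
    intro y hy
    induction hy using Submodule.span_induction with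
    | mem c hc =>
      by_cases hcc : c = c₀
      · subst hcc; exact h
      · refine N.smul_mem σ (Submodule.mem_sup_left (Submodule.subset_span ?_))
        simp only [Finset.coe_erase, Set.mem_sdiff, Finset.mem_coe, Set.mem_singleton_iff]
        exact ⟨hc, hcc⟩
    | zero => simp
    | add a b _ _ ha hb => rw [smul_add]; exact N.add_mem ha hb
    | smul r a _ ha => rw [smul_comm]; exact N.smul_mem r ha
  have key : ∀ w ∈ Submodule.span R (t : Set S) ⊔ I.restrictScalars R, σ • w ∈ N := by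
    intro w hw
    obtain ⟨y, hy, z, hz, rfl⟩ := Submodule.mem_sup.1 hw
    rw [smul_add]
    exact N.add_mem (key1 y hy) (N.smul_mem σ (Submodule.mem_sup_right hz))
  rw [mul_smul]
  exact key _ (hx x)

theorem exists_not_isNilpotent_forall_isNilpotent_mul [Module.Finite R S]
    (I : Ideal S) (a : R) (ha : ¬ IsNilpotent a)
    (h : ∀ p : Ideal R, p.IsPrime → a ∉ p →
      ∃ q : Ideal S, q.IsPrime ∧ I ≤ q ∧ q.comap (algebraMap R S) = p) :
    ∃ b : S, ¬ IsNilpotent b ∧ ∀ i ∈ I, IsNilpotent (b * i) := by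
  classical
  obtain ⟨G, hG⟩ := (Module.Finite.fg_top : (⊤ : Submodule R S).FG)
  have hex : ∃ m, ∃ p : Ideal R, p.IsPrime ∧ a ∉ p ∧ Sp I m p := by
    obtain ⟨p, hp, hap⟩ : ∃ p : Ideal R, p.IsPrime ∧ a ∉ p := by
      by_contra hcon
      push Not at hcon
      exact ha (nilpotent_iff_mem_prime.2 hcon)
    refine ⟨G.card, p, hp, hap, G, 1, le_rfl, ?_, fun x => ?_⟩
    · exact fun h1 => hp.ne_top ((Ideal.eq_top_iff_one _).2 h1)
    · rw [one_smul]; exact Submodule.mem_sup_left (by rw [hG]; trivial)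
  obtain ⟨p₀, hp₀, hap₀, t, u, htc, hu, hspan⟩ := Nat.find_spec hex
  have hmin : ∀ m < Nat.find hex, ¬ ∃ p : Ideal R, p.IsPrime ∧ a ∉ p ∧ Sp I m p :=
    fun m hm => Nat.find_min hex hm
  have hcard : t.card = Nat.find hex :=
    le_antisymm htc (not_lt.1 fun hlt => hmin _ hlt ⟨p₀, hp₀, hap₀, t, u, le_rfl, hu, hspan⟩)
  -- key claim
  have key : ∀ σ : S → R, (∑ c ∈ t, σ c • c) ∈ I → ∀ c ∈ t, IsNilpotent (a * u * σ c) := by
    intro σ hσ c₀ hc₀
    rw [nilpotent_iff_mem_prime]
    intro p hp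
    by_contra hnot
    have hap : a ∉ p := fun h' => hnot (p.mul_mem_right _ (p.mul_mem_right _ h'))
    have hup : u ∉ p := fun h' => hnot (p.mul_mem_right _ (p.mul_mem_left _ h'))
    have hσp : σ c₀ ∉ p := fun h' => hnot (p.mul_mem_left _ h')
    have hS : Sp I (t.card - 1) p := by
      refine Sp_erase I hup hspan c₀ hc₀ (σ c₀) hσp ?_
      have hsum := Finset.add_sum_erase t (fun c => σ c • c) hc₀
      have h2 : σ c₀ • c₀ = (∑ c ∈ t, σ c • c) - ∑ c ∈ t.erase c₀, σ c • c := by
        rw [← hsum]; abel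
      rw [h2]
      refine Submodule.sub_mem _ (Submodule.mem_sup_right hσ) (Submodule.mem_sup_left ?_)
      exact Submodule.sum_mem _ fun c hc =>
        Submodule.smul_mem _ _ (Submodule.subset_span (by exact_mod_cast hc))
    refine hmin (t.card - 1) ?_ ⟨p, hp, hap, hS⟩
    have : 0 < t.card := Finset.card_pos.2 ⟨c₀, hc₀⟩
    omega
  -- decompositions for generators
  have hdec : ∀ g : S, ∃ (ρ : S → R) (z : S), z ∈ I ∧ u • g = (∑ c ∈ t, ρ c • c) + z := by
    intro g
    obtain ⟨y, hy, z, hz, hyz⟩ := Submodule.mem_sup.1 (hspan g)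
    obtain ⟨ρ, -, hρ⟩ := Submodule.mem_span_finset.1 hy
    exact ⟨ρ, z, hz, by rw [← hyz, hρ]⟩
  choose ρ z hz hρz using hdec
  -- a minimal prime below p₀
  obtain ⟨η, hη, hηp⟩ := Ideal.exists_minimalPrimes_le (I := ⊥) (J := p₀) bot_le
  have hηp' : η.IsPrime := hη.1.1
  have haη : a ∉ η := fun h' => hap₀ (hηp h')
  have huη : u ∉ η := fun h' => hu (hηp h')
  obtain ⟨Q, hQp, hIQ, hQη⟩ := h η hηp' haη
  -- Q is a minimal prime of S
  have hQmin : Q ∈ minimalPrimes S := by
    refine ⟨⟨hQp, bot_le⟩, fun Q' hQ' hle => ?_⟩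
    have hQ'p : Q'.IsPrime := hQ'.1
    by_contra hnle
    have hlt : Q' < Q := lt_of_le_of_ne hle (fun e => hnle (e ▸ le_rfl))
    have := Ideal.IsIntegral.comap_lt_comap (R := R) hlt
    rw [hQη] at this
    have hc : (Q'.comap (algebraMap R S)).IsPrime := Ideal.comap_isPrime _ _
    exact absurd (hη.2 ⟨hc, bot_le⟩ this.le) (not_le_of_gt this)
  have hy : ∀ g : S, ∃ y ∉ Q, IsNilpotent (z g * y) := fun g =>
    exists_notMem_isNilpotent_mul hQmin (hIQ (hz g))
  choose y hyQ hynil using hy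
  set b : S := ∏ g ∈ G, y g with hb
  have hbQ : b ∉ Q := by
    rw [hb, hQp.prod_mem_iff]
    push Not
    exact fun g _ => hyQ g
  have hauu : algebraMap R S (a * u * u) ∉ Q := by
    intro hmem
    have : a * u * u ∈ Q.comap (algebraMap R S) := hmem
    rw [hQη] at this
    rcases hηp'.mem_or_mem this with h1 | h1
    · rcases hηp'.mem_or_mem h1 with h2 | h2
      · exact haη h2
      · exact huη h2
    · exact huη h1
  refine ⟨algebraMap R S (a * u * u) * b, fun hnil => ?_, fun i hi => ?_⟩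
  · have := nilpotent_iff_mem_prime.1 hnil Q hQp
    rcases hQp.mem_or_mem this with h1 | h1
    · exact hauu h1
    · exact hbQ h1
  · rw [← mem_nilradical]
    have hiG : i ∈ Submodule.span R (G : Set S) := by rw [hG]; trivial
    obtain ⟨r, -, hr⟩ := Submodule.mem_span_finset.1 hiG
    -- u • i = Σ_c σ c • c + Σ_g r g • z g
    set σ : S → R := fun c => ∑ g ∈ G, r g * ρ g c with hσdef
    have hui : u • i = (∑ c ∈ t, σ c • c) + ∑ g ∈ G, r g • z g := by
      rw [← hr, Finset.smul_sum]
      have : ∀ g ∈ G, u • r g • g = (∑ c ∈ t, (r g * ρ g c) • c) + r g • z g := by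
        intro g _
        rw [smul_comm, hρz g, smul_add, Finset.smul_sum]
        simp only [mul_smul]
      rw [Finset.sum_congr rfl this, Finset.sum_add_distrib, Finset.sum_comm]
      congr 1
      refine Finset.sum_congr rfl fun c _ => ?_
      rw [hσdef, Finset.sum_smul]
    have hσI : (∑ c ∈ t, σ c • c) ∈ I := by
      have : (∑ c ∈ t, σ c • c) = u • i - ∑ g ∈ G, r g • z g := by rw [hui]; abel
      rw [this]
      refine I.sub_mem ?_ (I.sum_mem fun g _ => ?_)
      · rw [Algebra.smul_def]; exact I.mul_mem_left _ hi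
      · rw [Algebra.smul_def]; exact I.mul_mem_left _ (hz g)
    have hnil := key σ hσI
    have e1 : algebraMap R S (a * u * u) * b * i = b * ((a * u) • (u • i)) := by
      rw [Algebra.smul_def, Algebra.smul_def, map_mul (algebraMap R S) (a * u) u]; ring
    rw [e1, hui, smul_add, Finset.smul_sum, Finset.smul_sum, mul_add, Finset.mul_sum,
      Finset.mul_sum]
    refine (nilradical S).add_mem ((nilradical S).sum_mem fun c hc => ?_)
      ((nilradical S).sum_mem fun g hg => ?_)
    · rw [smul_smul, Algebra.smul_def, ← mul_assoc, mul_comm b, mul_assoc]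
      refine (nilradical S).mul_mem_right _ ?_
      rw [mem_nilradical]
      exact (hnil c hc).map (algebraMap R S)
    · rw [smul_smul, Algebra.smul_def, ← mul_assoc, mul_comm b, mul_assoc]
      refine (nilradical S).mul_mem_left _ ?_
      obtain ⟨w, hw⟩ := Finset.dvd_prod_of_mem y hg
      rw [hb, hw, mul_comm (y g) w, mul_assoc, mul_comm (y g)]
      exact (nilradical S).mul_mem_left _ (mem_nilradical.2 (hynil g))

/-- A finite ring map sends closed nowhere dense subsets of the spectrum to nowhere dense sets. -/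
theorem isNowhereDense_image_comap [Module.Finite R S] (T : Set (PrimeSpectrum S))
    (hT : IsClosed T) (hT' : IsNowhereDense T) :
    IsNowhereDense (PrimeSpectrum.comap (algebraMap R S) '' T) := by
  have hint : Algebra.IsIntegral R S := inferInstance
  have hcl : IsClosed (PrimeSpectrum.comap (algebraMap R S) '' T) :=
    PrimeSpectrum.isClosedMap_comap_of_isIntegral _ (algebraMap_isIntegral_iff.2 hint) _ hT
  rw [hcl.isNowhereDense_iff]
  by_contra hne
  obtain ⟨x, hx⟩ := Set.nonempty_iff_ne_empty.2 hne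
  obtain ⟨I, rfl⟩ := (PrimeSpectrum.isClosed_iff_zeroLocus_ideal T).1 hT
  obtain ⟨_, ⟨a, rfl⟩, hxa, haT⟩ :=
    PrimeSpectrum.isTopologicalBasis_basic_opens.exists_subset_of_mem_open hx isOpen_interior
  have ha : ¬ IsNilpotent a := fun hnil =>
    hxa (nilpotent_iff_mem_prime.1 hnil x.asIdeal x.isPrime)
  obtain ⟨b, hb, hbI⟩ := exists_not_isNilpotent_forall_isNilpotent_mul I a ha (fun p hp hap => by
    have : (⟨p, hp⟩ : PrimeSpectrum R) ∈ PrimeSpectrum.comap (algebraMap R S) '' zeroLocus I :=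
      interior_subset (haT hap)
    obtain ⟨q, hq, hqp⟩ := this
    exact ⟨q.asIdeal, q.isPrime, hq, congrArg PrimeSpectrum.asIdeal hqp⟩)
  have hsub : (PrimeSpectrum.basicOpen b : Set (PrimeSpectrum S)) ⊆ zeroLocus I := by
    intro q hq i hi
    have := nilpotent_iff_mem_prime.1 (hbI i hi) q.asIdeal q.isPrime
    exact (q.isPrime.mem_or_mem this).resolve_left hq
  have hbne : (PrimeSpectrum.basicOpen b : Set (PrimeSpectrum S)).Nonempty := by
    by_contra hcon
    apply hb
    rw [nilpotent_iff_mem_prime]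
    intro J hJ
    by_contra hbJ
    exact hcon ⟨⟨J, hJ⟩, hbJ⟩
  obtain ⟨q, hq⟩ := hbne
  have : q ∈ interior (zeroLocus (I : Set S)) :=
    interior_maximal hsub (PrimeSpectrum.basicOpen b).isOpen hq
  rw [hT.isNowhereDense_iff] at hT'
  rw [hT'] at this
  exact this

end Groth.Agent.H3.QFin
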