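import Mathlib
import Groth.Agent.Lib.Helper3.QFin.FinAlg

/-!
# Finite morphisms send closed nowhere dense sets to nowhere dense sets (helper3)
-/

namespace Groth.Agent.H3.QFin

universe u

open AlgebraicGeometry CategoryTheory TopologicalSpace

/-- Preimage of a nowhere dense set under a continuous open map is nowhere dense. -/
theorem isNowhereDense_preimage {A B : Type*} [TopologicalSpace A] [TopologicalSpace B]
    {f : A → B} (hc : Continuous f) (ho : IsOpenMap f) {s : Set B} (hs : IsNowhereDense s) :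
    IsNowhereDense (f ⁻¹' s) := by
  rw [IsNowhereDense, Set.eq_empty_iff_forall_notMem]
  intro x hx
  have h1 : interior (closure (f ⁻¹' s)) ⊆ f ⁻¹' (closure s) :=
    interior_subset.trans (hc.closure_preimage_subset s)
  have h2 : f '' interior (closure (f ⁻¹' s)) ⊆ interior (closure s) := by
    refine interior_maximal ?_ (ho _ isOpen_interior)
    rintro _ ⟨y, hy, rfl⟩
    exact h1 hy
  have : f x ∈ interior (closure s) := h2 ⟨x, hx, rfl⟩
  rw [hs] at this
  exact this

/-- A nowhere dense set has empty interior. -/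
theorem interior_eq_empty_of_isNowhereDense {A : Type*} [TopologicalSpace A] {s : Set A}
    (hs : IsNowhereDense s) : interior s = ∅ :=
  Set.eq_empty_of_subset_empty (hs ▸ interior_mono subset_closure)

/-- Finite unions of closed nowhere dense sets are closed nowhere dense. -/
theorem isClosed_isNowhereDense_biUnion {A ι : Type*} [TopologicalSpace A] (t : Finset ι)
    (E : ι → Set A) (h : ∀ i ∈ t, IsClosed (E i) ∧ IsNowhereDense (E i)) :
    IsClosed (⋃ i ∈ t, E i) ∧ IsNowhereDense (⋃ i ∈ t, E i) := by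
  classical
  induction t using Finset.induction_on with
  | empty => simp
  | insert a t hat ih =>
    have h1 := h a (Finset.mem_insert_self a t)
    have h2 := ih fun i hi => h i (Finset.mem_insert_of_mem hi)
    rw [Finset.set_biUnion_insert]
    rw [isClosed_isNowhereDense_iff_compl] at h1 h2 ⊢
    rw [Set.compl_union]
    exact ⟨h1.1.inter h2.1, h1.2.inter_of_isOpen_left h2.2 h1.1⟩

theorem isNowhereDense_image_of_isFinite {P X : Scheme.{u}} (g : P ⟶ X) [IsFinite g]
    (T : Set P) (hT : IsClosed T) (hT' : IsNowhereDense T) : IsNowhereDense (g '' T) := by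
  have hcl : IsClosed (g '' T) := g.isClosedMap _ hT
  rw [hcl.isNowhereDense_iff]
  by_contra hne
  obtain ⟨x, hx⟩ := Set.nonempty_iff_ne_empty.2 hne
  obtain ⟨U, hU, hxU, hUi⟩ : ∃ U : X.Opens, IsAffineOpen U ∧ x ∈ U ∧
      (U : Set X) ⊆ interior (g '' T) := by
    obtain ⟨_, ⟨U, hU, rfl⟩, hx', hsub⟩ :=
      X.isBasis_affineOpens.exists_subset_of_mem_open hx isOpen_interior
    exact ⟨U, hU, hx', hsub⟩
  have hV : IsAffineOpen (g ⁻¹ᵁ U) := hU.preimage g
  have hφ : (g.app U).hom.Finite := IsFinite.finite_app g U hU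
  algebraize [(g.app U).hom]
  have hcomp : Spec.map (g.app U) ≫ hU.fromSpec = hV.fromSpec ≫ g := by
    rw [Scheme.Hom.app_eq_appLE]
    exact IsAffineOpen.SpecMap_appLE_fromSpec g hU hV le_rfl
  let T'' : Set (PrimeSpectrum Γ(P, g ⁻¹ᵁ U)) := hV.fromSpec ⁻¹' T
  have hT''c : IsClosed T'' := hT.preimage hV.fromSpec.continuous
  have hT''n : IsNowhereDense T'' :=
    isNowhereDense_preimage hV.fromSpec.continuous hV.fromSpec.isOpenEmbedding.isOpenMap hT'
  have hnd := isNowhereDense_image_comap (R := Γ(X, U)) (S := Γ(P, g ⁻¹ᵁ U)) T'' hT''c hT''n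
  have hint := interior_eq_empty_of_isNowhereDense hnd
  obtain ⟨x', rfl⟩ : x ∈ Set.range hU.fromSpec := by rw [hU.range_fromSpec]; exact hxU
  have hsub : hU.fromSpec ⁻¹' (interior (g '' T)) ⊆
      PrimeSpectrum.comap (algebraMap Γ(X, U) Γ(P, g ⁻¹ᵁ U)) '' T'' := by
    intro y hy
    obtain ⟨t, ht, hty⟩ := interior_subset hy
    have htU : t ∈ g ⁻¹ᵁ U := by
      change g t ∈ U
      rw [hty]
      have : hU.fromSpec y ∈ Set.range hU.fromSpec := ⟨y, rfl⟩
      rw [hU.range_fromSpec] at this
      exact this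
    obtain ⟨s, rfl⟩ : t ∈ Set.range hV.fromSpec := by rw [hV.range_fromSpec]; exact htU
    refine ⟨s, ht, ?_⟩
    apply hU.fromSpec.isOpenEmbedding.injective
    have := congr($hcomp s)
    rw [Scheme.Hom.comp_apply, Scheme.Hom.comp_apply] at this
    rw [← hty, ← this]
    rfl
  have : x' ∈ interior (PrimeSpectrum.comap (algebraMap Γ(X, U) Γ(P, g ⁻¹ᵁ U)) '' T'') :=
    interior_maximal hsub (isOpen_interior.preimage hU.fromSpec.continuous) hx
  rw [hint] at this
  exact this

end Groth.Agent.H3.QFin
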