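import Mathlib
import Groth.Agent.Lib.Helper3.QFin.FinSch

/-!
# Local structure of quasi-finite morphisms (helper3)
-/

namespace Groth.Agent.H3.QFin

universe u

open AlgebraicGeometry CategoryTheory TopologicalSpace

set_option backward.isDefEq.respectTransparency false in
theorem exists_local_structure {Y X : Scheme.{u}} (f : Y ⟶ X) [LocallyOfFiniteType f]
    [LocallyQuasiFinite f] [IsAffine X] (y : Y) :
    ∃ (W : Y.Opens) (P : Scheme.{u}) (j : (W : Scheme.{u}) ⟶ P) (g : P ⟶ X),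
      y ∈ W ∧ IsOpenImmersion j ∧ IsFinite g ∧ j ≫ g = W.ι ≫ f := by
  obtain ⟨W₀, hW₀, hyW₀⟩ : ∃ U : Y.Opens, IsAffineOpen U ∧ y ∈ U := by
    obtain ⟨_, ⟨U, hU, rfl⟩, hx, -⟩ :=
      Y.isBasis_affineOpens.exists_subset_of_mem_open (Set.mem_univ y) isOpen_univ
    exact ⟨U, hU, hx⟩
  have hle : W₀ ≤ f ⁻¹ᵁ ⊤ := le_top
  have hft : (f.appLE ⊤ W₀ hle).hom.FiniteType :=
    f.finiteType_appLE (isAffineOpen_top X) hW₀ hle
  algebraize [(f.appLE ⊤ W₀ hle).hom]
  have hqf : Algebra.QuasiFiniteAt Γ(X, ⊤) (hW₀.primeIdealOf ⟨y, hyW₀⟩).asIdeal :=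
    (f.quasiFiniteAt y).quasiFiniteAt hW₀ (isAffineOpen_top X) hle hyW₀
  obtain ⟨B', hB', r, hr, hbij⟩ :=
    Algebra.QuasiFiniteAt.exists_fg_and_exists_notMem_and_awayMap_bijective (R := Γ(X, ⊤))
      (hW₀.primeIdealOf ⟨y, hyW₀⟩).asIdeal
  have hfin : Module.Finite Γ(X, ⊤) B' := ⟨(Submodule.fg_top _).mpr hB'⟩
  -- the open immersion `Spec B_r ⟶ Y`
  let ι : Spec (.of (Localization.Away r.1)) ⟶ Y :=
    Spec.map (CommRingCat.ofHom (algebraMap Γ(Y, W₀) (Localization.Away r.1))) ≫ hW₀.fromSpec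
  have hιrange : (ι.opensRange : Set Y) =
      hW₀.fromSpec '' (PrimeSpectrum.basicOpen r.1 : Set (PrimeSpectrum Γ(Y, W₀))) := by
    simp only [ι, Scheme.Hom.opensRange_comp]
    change hW₀.fromSpec '' (Set.range (Spec.map (CommRingCat.ofHom
      (algebraMap Γ(Y, W₀) (Localization.Away r.1))))) = _
    congr 1
    exact PrimeSpectrum.localization_away_comap_range _ _
  let e := ι.isoOpensRange
  let j : (ι.opensRange : Scheme.{u}) ⟶ Spec (.of B') :=
    e.inv ≫ Spec.map (CommRingCat.ofHom (Localization.awayMap B'.val.toRingHom r)) ≫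
      Spec.map (CommRingCat.ofHom (algebraMap B' (Localization.Away r)))
  let g : Spec (.of B') ⟶ X :=
    Spec.map (CommRingCat.ofHom (algebraMap Γ(X, ⊤) B')) ≫ X.isoSpec.inv
  refine ⟨ι.opensRange, Spec (.of B'), j, g, ?_, ?_, ?_, ?_⟩
  · change y ∈ (ι.opensRange : Set Y)
    rw [hιrange]
    exact ⟨hW₀.primeIdealOf ⟨y, hyW₀⟩, hr, hW₀.fromSpec_primeIdealOf ⟨y, hyW₀⟩⟩
  · have h1 : IsIso (Spec.map (CommRingCat.ofHom (Localization.awayMap B'.val.toRingHom r))) := by
      have : IsIso (CommRingCat.ofHom (Localization.awayMap B'.val.toRingHom r)) :=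
        (ConcreteCategory.isIso_iff_bijective _).2 hbij
      infer_instance
    have h2 : IsOpenImmersion (Spec.map (CommRingCat.ofHom (algebraMap B' (Localization.Away r)))) :=
      IsOpenImmersion.of_isLocalization r
    infer_instance
  · have : IsFinite (Spec.map (CommRingCat.ofHom (algebraMap Γ(X, ⊤) B'))) := by
      rw [IsFinite.SpecMap_iff]
      exact RingHom.finite_algebraMap.mpr hfin
    infer_instance
  · have h1 : e.inv ≫ ι = ι.opensRange.ι := by
      rw [Iso.inv_comp_eq]; exact (Scheme.Hom.isoOpensRange_hom_ι ι).symm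
    have h2 : hW₀.fromSpec ≫ f = Spec.map (f.appLE ⊤ W₀ hle) ≫ X.isoSpec.inv := by
      rw [← IsAffineOpen.fromSpec_top]
      exact (IsAffineOpen.SpecMap_appLE_fromSpec f (isAffineOpen_top X) hW₀ hle).symm
    rw [← h1]
    simp only [j, g, ι, Category.assoc]
    rw [h2]
    simp only [← Category.assoc]
    congr 1
    simp only [Category.assoc]
    congr 1
    rw [← Spec.map_comp, ← Spec.map_comp, ← Spec.map_comp]
    congr 1
    ext x
    simp only [CommRingCat.hom_comp, CommRingCat.hom_ofHom, RingHom.coe_comp, Function.comp_apply]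
    exact (IsLocalization.map_eq (S := Localization.Away r)
      (Q := Localization.Away (B'.val.toRingHom r)) _ _).trans rfl

end Groth.Agent.H3.QFin
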