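import Mathlib
import Groth.Agent.Lib.Helper3.QFin.LocStr

/-!
# Quasi-finite morphisms send closed nowhere dense sets to nowhere dense sets (helper3)
-/

namespace Groth.Agent.H3.QFin

universe u

open AlgebraicGeometry CategoryTheory TopologicalSpace

theorem isNowhereDense_image_of_isAffine {Y X : Scheme.{u}} (f : Y ⟶ X) [LocallyQuasiFinite f]
    [LocallyOfFiniteType f] [QuasiCompact f] [IsAffine X]
    (T : Set Y) (hT : IsClosed T) (hT' : IsNowhereDense T) : IsNowhereDense (f '' T) := by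
  have hc : CompactSpace Y :=
    (HasAffineProperty.iff_of_isAffine (P := @QuasiCompact) (f := f)).1 inferInstance
  choose W P j g hyW hj hg hjg using fun y => exists_local_structure f y
  obtain ⟨t, ht⟩ := isCompact_univ.elim_finite_subcover (fun y => (W y : Set Y))
    (fun y => (W y).isOpen) (fun y _ => Set.mem_iUnion.2 ⟨y, hyW y⟩)
  let E : Y → Set X := fun y => g y '' closure (j y '' ((W y).ι ⁻¹' T))
  have hE : ∀ y ∈ t, IsClosed (E y) ∧ IsNowhereDense (E y) := by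
    intro y _
    have := hg y
    have := hj y
    have h1 : IsNowhereDense ((W y).ι ⁻¹' T) :=
      isNowhereDense_preimage (W y).ι.continuous (W y).ι.isOpenEmbedding.isOpenMap hT'
    have h2 : IsNowhereDense (j y '' ((W y).ι ⁻¹' T)) :=
      (j y).isOpenEmbedding.isInducing.isNowhereDense_image h1
    exact ⟨(g y).isClosedMap _ isClosed_closure,
      isNowhereDense_image_of_isFinite (g y) _ isClosed_closure h2.closure⟩
  have hsub : f '' T ⊆ ⋃ y ∈ t, E y := by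
    rintro _ ⟨t₀, ht₀, rfl⟩
    obtain ⟨y, hy⟩ := Set.mem_iUnion.1 (ht (Set.mem_univ t₀))
    obtain ⟨hyt, ht₀W⟩ := Set.mem_iUnion.1 hy
    refine Set.mem_iUnion₂.2 ⟨y, hyt, ?_⟩
    let w : (W y : Scheme.{u}) := ⟨t₀, ht₀W⟩
    have hw : (W y).ι w = t₀ := rfl
    have h3 := congr($(hjg y) w)
    rw [Scheme.Hom.comp_apply, Scheme.Hom.comp_apply, hw] at h3
    rw [← h3]
    exact ⟨j y w, subset_closure ⟨w, by change (W y).ι w ∈ T; rw [hw]; exact ht₀, rfl⟩, rfl⟩
  exact (isClosed_isNowhereDense_biUnion t E hE).2.mono hsub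

theorem isNowhereDense_image {Y X : Scheme.{u}} (f : Y ⟶ X) [LocallyQuasiFinite f]
    [LocallyOfFiniteType f] [QuasiCompact f]
    (T : Set Y) (hT : IsClosed T) (hT' : IsNowhereDense T) : IsNowhereDense (f '' T) := by
  rw [IsNowhereDense, Set.eq_empty_iff_forall_notMem]
  intro x hx
  obtain ⟨U, hU, hxU⟩ : ∃ U : X.Opens, IsAffineOpen U ∧ x ∈ U := by
    obtain ⟨_, ⟨U, hU, rfl⟩, hx', -⟩ :=
      X.isBasis_affineOpens.exists_subset_of_mem_open (Set.mem_univ x) isOpen_univ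
    exact ⟨U, hU, hx'⟩
  have : IsAffine U := hU
  let T₁ : Set ↥(f ⁻¹ᵁ U) := (f ⁻¹ᵁ U).ι ⁻¹' T
  have h1 : IsNowhereDense ((f ∣_ U) '' T₁) :=
    isNowhereDense_image_of_isAffine (f ∣_ U) T₁ (hT.preimage (f ⁻¹ᵁ U).ι.continuous)
      (isNowhereDense_preimage (f ⁻¹ᵁ U).ι.continuous (f ⁻¹ᵁ U).ι.isOpenEmbedding.isOpenMap hT')
  have h2 : U.ι ⁻¹' (f '' T) ⊆ (f ∣_ U) '' T₁ := by
    rintro z ⟨t₀, ht₀, htz⟩
    have ht₀U : t₀ ∈ f ⁻¹ᵁ U := by
      change f t₀ ∈ U
      rw [htz]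
      exact z.2
    let w : ↥(f ⁻¹ᵁ U) := ⟨t₀, ht₀U⟩
    have hw : (f ⁻¹ᵁ U).ι w = t₀ := rfl
    refine ⟨w, by change (f ⁻¹ᵁ U).ι w ∈ T; rw [hw]; exact ht₀, ?_⟩
    apply U.ι.isOpenEmbedding.injective
    have h3 := congr($(morphismRestrict_ι f U) w)
    rw [Scheme.Hom.comp_apply, Scheme.Hom.comp_apply, hw] at h3
    rw [h3, htz]
  have h3 : (⟨x, hxU⟩ : ↥U) ∈ interior (closure (U.ι ⁻¹' (f '' T))) := by
    rw [← U.ι.isOpenEmbedding.isOpenMap.preimage_closure_eq_closure_preimage U.ι.continuous]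
    exact interior_maximal (Set.preimage_mono interior_subset)
      (isOpen_interior.preimage U.ι.continuous) hx
  have h4 := interior_mono (closure_mono h2) h3
  rw [h1] at h4
  exact h4

end Groth.Agent.H3.QFin
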