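import Mathlib
import Groth.Agent.Lib.Helper3.QFin.NowhereDense

/-!
# Quasi-finite morphisms are finite over a dense open (helper3)
-/

namespace Groth.Agent.H3.QFin

universe u

open AlgebraicGeometry CategoryTheory TopologicalSpace Limits

/-- Shrinking the base so that an open of a finite scheme becomes closed. -/
theorem exists_opens_closure_inter_subset {P X : Scheme.{u}} (g : P ⟶ X) [IsFinite g]
    (W : P.Opens) (O : X.Opens) (hO : (O : Set X).Nonempty) :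
    ∃ V : X.Opens, V ≤ O ∧ (V : Set X).Nonempty ∧ closure (W : Set P) ∩ g ⁻¹' V ⊆ W := by
  have hfr : IsNowhereDense (frontier (W : Set P)) := by
    rw [isClosed_frontier.isNowhereDense_iff, ← frontier_compl]
    exact interior_frontier W.isOpen.isClosed_compl
  have hE := isNowhereDense_image_of_isFinite g _ isClosed_frontier hfr
  have hEc : IsClosed (g '' frontier (W : Set P)) := g.isClosedMap _ isClosed_frontier
  refine ⟨O ⊓ ⟨(g '' frontier (W : Set P))ᶜ, hEc.isOpen_compl⟩, inf_le_left, ?_, ?_⟩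
  · by_contra hne
    rw [Set.not_nonempty_iff_eq_empty] at hne
    have hsub : (O : Set X) ⊆ g '' frontier (W : Set P) := by
      intro x hx
      by_contra hx'
      have : x ∈ ((O ⊓ ⟨(g '' frontier (W : Set P))ᶜ, hEc.isOpen_compl⟩ : X.Opens) : Set X) :=
        ⟨hx, hx'⟩
      rw [hne] at this
      exact this
    have := interior_maximal hsub O.isOpen
    rw [hEc.isNowhereDense_iff] at hE
    rw [hE] at this
    obtain ⟨x, hx⟩ := hO
    exact this hx
  · rintro p ⟨hp1, hp2⟩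
    by_contra hpW
    have hpf : p ∈ frontier (W : Set P) := by
      rw [W.isOpen.frontier_eq]; exact ⟨hp1, hpW⟩
    exact hp2.2 ⟨p, hpf, rfl⟩

theorem isFinite_morphismRestrict_of_le {Y X : Scheme.{u}} (h : Y ⟶ X) {V V₁ : X.Opens}
    (hle : V ≤ V₁) (hfin : IsFinite (h ∣_ V₁)) : IsFinite (h ∣_ V) := by
  have h1 : IsFinite (h ∣_ V₁ ∣_ (V₁.ι ⁻¹ᵁ V)) := inferInstance
  have h2 := (MorphismProperty.arrow_mk_iso_iff @IsFinite
    (morphismRestrictRestrict h V₁ (V₁.ι ⁻¹ᵁ V))).1 h1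
  have e : V₁.ι ''ᵁ (V₁.ι ⁻¹ᵁ V) = V := by
    rw [Scheme.Hom.image_preimage_eq_opensRange_inf, Scheme.Opens.opensRange_ι]
    exact inf_eq_right.2 hle
  exact (MorphismProperty.arrow_mk_iso_iff @IsFinite (morphismRestrictEq h e)).1 h2

/-- Gluing finiteness along a cover by two opens with clopen intersection. -/
theorem isFinite_of_cover_two {Y X Y₁ Y₂ : Scheme.{u}} (f : Y ⟶ X) (i₁ : Y₁ ⟶ Y) (i₂ : Y₂ ⟶ Y)
    [IsOpenImmersion i₁] [IsOpenImmersion i₂]
    (hcov : Set.range i₁ ∪ Set.range i₂ = Set.univ) (h₁ : IsFinite (i₁ ≫ f))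
    (h₂ : IsFinite (i₂ ≫ f)) (hcl : IsClosed (i₂ ⁻¹' Set.range i₁)) : IsFinite f := by
  let Z₂ : Y₂.Opens := ⟨(i₂ ⁻¹' Set.range i₁)ᶜ, hcl.isOpen_compl⟩
  let Z : Y.Opens := i₂ ''ᵁ Z₂
  let U₁ : Y.Opens := i₁.opensRange
  have hZ₂cl : IsClosed (Z₂ : Set Y₂) := by
    change IsClosed ((i₂ ⁻¹' Set.range i₁)ᶜ)
    exact (i₁.opensRange.isOpen.preimage i₂.continuous).isClosed_compl
  have hcompl : IsCompl U₁ Z := by
    rw [isCompl_iff, disjoint_iff, codisjoint_iff]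
    constructor
    · ext y
      simp only [Opens.coe_inf, Opens.coe_bot, Set.mem_inter_iff, Set.mem_empty_iff_false,
        iff_false, not_and]
      rintro ⟨a, rfl⟩ ⟨w, hw, hwa⟩
      exact hw ⟨a, hwa.symm⟩
    · ext y
      simp only [Opens.coe_sup, Opens.coe_top, Set.mem_union, Set.mem_univ, iff_true]
      have hy : y ∈ Set.range i₁ ∪ Set.range i₂ := by rw [hcov]; trivial
      rcases hy with hy | ⟨w, rfl⟩
      · exact Or.inl hy
      · by_cases hw : i₂ w ∈ Set.range i₁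
        · exact Or.inl hw
        · exact Or.inr ⟨w, hw, rfl⟩
  have hU₁ : IsFinite (U₁.ι ≫ f) := by
    have : U₁.ι ≫ f = i₁.isoOpensRange.inv ≫ (i₁ ≫ f) := by
      rw [← Category.assoc, Scheme.Hom.isoOpensRange_inv_comp]
    rw [this]
    infer_instance
  have hZ : IsFinite (Z.ι ≫ f) := by
    have hci : IsClosedImmersion Z₂.ι :=
      .of_isPreimmersion _ (by rw [Scheme.Opens.range_ι]; exact hZ₂cl)
    have : Z.ι ≫ f = (i₂.isoImage Z₂).inv ≫ Z₂.ι ≫ (i₂ ≫ f) := by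
      rw [← Category.assoc Z₂.ι, ← Category.assoc, Scheme.Hom.isoImage_inv_ι]
    rw [this]
    infer_instance
  obtain ⟨H⟩ := nonempty_isColimit_binaryCofanMk_of_isCompl U₁.ι Z.ι (by simpa using hcompl)
  let e : Y ≅ (U₁ : Scheme.{u}) ⨿ (Z : Scheme.{u}) :=
    H.coconePointUniqueUpToIso (colimit.isColimit _)
  have e1 : U₁.ι ≫ e.hom = coprod.inl := H.comp_coconePointUniqueUpToIso_hom _ ⟨.left⟩
  have e2 : Z.ι ≫ e.hom = coprod.inr := H.comp_coconePointUniqueUpToIso_hom _ ⟨.right⟩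
  have hdesc : e.inv ≫ f = coprod.desc (U₁.ι ≫ f) (Z.ι ≫ f) := by
    apply coprod.hom_ext
    · rw [coprod.inl_desc, ← e1, Category.assoc, e.hom_inv_id_assoc]
    · rw [coprod.inr_desc, ← e2, Category.assoc, e.hom_inv_id_assoc]
  have : IsFinite (e.inv ≫ f) := by rw [hdesc]; infer_instance
  exact (MorphismProperty.cancel_left_of_respectsIso @IsFinite e.inv f).1 this

end Groth.Agent.H3.QFin

namespace Groth.Agent.H3.QFin

universe u

open AlgebraicGeometry CategoryTheory TopologicalSpace Limits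

theorem mem_range_morphismRestrict {A B : Scheme.{u}} (i : A ⟶ B) (U : B.Opens) (z : ↥U) :
    z ∈ Set.range (i ∣_ U) ↔ z.1 ∈ Set.range i := by
  constructor
  · rintro ⟨a, rfl⟩
    exact ⟨a.1, (morphismRestrict_base_coe i U a).symm⟩
  · rintro ⟨a, ha⟩
    have haU : a ∈ i ⁻¹ᵁ U := by
      change i a ∈ U
      rw [ha]; exact z.2
    exact ⟨⟨a, haU⟩, Subtype.ext ((morphismRestrict_base_coe i U ⟨a, haU⟩).trans ha)⟩

theorem isFinite_restrict_congr {A B : Scheme.{u}} {h h' : A ⟶ B} (e : h = h') (V : B.Opens) :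
    IsFinite (h ∣_ V) ↔ IsFinite (h' ∣_ V) := by
  subst e; rfl

/-- `h` is finite over a nonempty open inside every nonempty open of the target. -/
def GenFin {Z X : Scheme.{u}} (h : Z ⟶ X) : Prop :=
  ∀ O : X.Opens, (O : Set X).Nonempty →
    ∃ V : X.Opens, V ≤ O ∧ (V : Set X).Nonempty ∧ IsFinite (h ∣_ V)

theorem genFin_step {Y' X Y₁ Y₂ P : Scheme.{u}} (f : Y' ⟶ X) (i₁ : Y₁ ⟶ Y') (i₂ : Y₂ ⟶ Y')
    [IsOpenImmersion i₁] [IsOpenImmersion i₂] (hcov : Set.range i₁ ∪ Set.range i₂ = Set.univ)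
    (h₁ : GenFin (i₁ ≫ f)) (j : Y₂ ⟶ P) [IsOpenImmersion j] (g : P ⟶ X) [IsFinite g]
    (hjg : j ≫ g = i₂ ≫ f) : GenFin f := by
  intro O hO
  obtain ⟨V₁, hV₁O, hV₁ne, hV₁fin⟩ := h₁ O hO
  obtain ⟨V₂, hV₂V₁, hV₂ne, hV₂cl⟩ :=
    exists_opens_closure_inter_subset g j.opensRange V₁ hV₁ne
  obtain ⟨V, hVV₂, hVne, hVcl⟩ :=
    exists_opens_closure_inter_subset g (j ''ᵁ (i₂ ⁻¹ᵁ i₁.opensRange)) V₂ hV₂ne
  refine ⟨V, hVV₂.trans (hV₂V₁.trans hV₁O), hVne, ?_⟩
  have hfin1 : IsFinite (i₁ ∣_ (f ⁻¹ᵁ V) ≫ f ∣_ V) := by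
    rw [← morphismRestrict_comp]
    exact isFinite_morphismRestrict_of_le _ (hVV₂.trans hV₂V₁) hV₁fin
  have hci : IsClosedImmersion (j ∣_ (g ⁻¹ᵁ V)) := by
    refine .of_isPreimmersion _ ?_
    have : Set.range (j ∣_ (g ⁻¹ᵁ V)) = Subtype.val ⁻¹' closure (Set.range j) := by
      ext p
      constructor
      · intro hp
        exact subset_closure ((mem_range_morphismRestrict j _ p).1 hp)
      · intro hp
        exact (mem_range_morphismRestrict j _ p).2 (hV₂cl ⟨hp, hVV₂ p.2⟩)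
    rw [this]
    exact isClosed_closure.preimage continuous_subtype_val
  have hfin2' : IsFinite ((j ≫ g) ∣_ V) := by
    rw [morphismRestrict_comp]
    have h1 : IsFinite (j ∣_ (g ⁻¹ᵁ V)) := inferInstance
    have h2 : IsFinite (g ∣_ V) := inferInstance
    exact MorphismProperty.comp_mem @IsFinite _ _ h1 h2
  have hfin2 : IsFinite (i₂ ∣_ (f ⁻¹ᵁ V) ≫ f ∣_ V) := by
    have := (isFinite_restrict_congr hjg V).1 hfin2'
    rw [morphismRestrict_comp] at this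
    exact this
  refine isFinite_of_cover_two (f ∣_ V) (i₁ ∣_ (f ⁻¹ᵁ V)) (i₂ ∣_ (f ⁻¹ᵁ V)) ?_ hfin1 hfin2 ?_
  · rw [Set.eq_univ_iff_forall]
    intro z
    have hz : z.1 ∈ Set.range i₁ ∪ Set.range i₂ := by rw [hcov]; trivial
    rcases hz with hz | hz
    · exact Or.inl ((mem_range_morphismRestrict i₁ _ z).2 hz)
    · exact Or.inr ((mem_range_morphismRestrict i₂ _ z).2 hz)
  · have : (i₂ ∣_ (f ⁻¹ᵁ V)) ⁻¹' Set.range (i₁ ∣_ (f ⁻¹ᵁ V)) =
        (fun b : ↥(i₂ ⁻¹ᵁ (f ⁻¹ᵁ V)) => j b.1) ⁻¹'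
          closure (j '' (i₂ ⁻¹' Set.range i₁)) := by
      ext b
      constructor
      · intro hb
        have hb' := (mem_range_morphismRestrict i₁ _ _).1 hb
        rw [morphismRestrict_base_coe] at hb'
        exact subset_closure ⟨b.1, hb', rfl⟩
      · intro hb
        have hgV : j b.1 ∈ g ⁻¹' (V : Set X) := by
          change g (j b.1) ∈ V
          have := congr($hjg b.1)
          rw [Scheme.Hom.comp_apply, Scheme.Hom.comp_apply] at this
          rw [this]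
          exact b.2
        have := hVcl ⟨hb, hgV⟩
        obtain ⟨b', hb', hbb⟩ := this
        have hbe : b' = b.1 := j.isOpenEmbedding.injective hbb
        refine (mem_range_morphismRestrict i₁ _ _).2 ?_
        rw [morphismRestrict_base_coe, ← hbe]
        exact hb'
    rw [this]
    exact isClosed_closure.preimage (j.continuous.comp continuous_subtype_val)

end Groth.Agent.H3.QFin

namespace Groth.Agent.H3.QFin

universe u

open AlgebraicGeometry CategoryTheory TopologicalSpace Limits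

theorem genFin_of_isEmpty {Z X : Scheme.{u}} [IsEmpty Z] (h : Z ⟶ X) : GenFin h := by
  intro O hO
  refine ⟨O, le_rfl, hO, ?_⟩
  have : IsEmpty ↥(h ⁻¹ᵁ O) := ⟨fun z => IsEmpty.false z.1⟩
  infer_instance

theorem genFin_iSup {Y X : Scheme.{u}} (f : Y ⟶ X) (W : Y → Y.Opens)
    (hW : ∀ y, ∃ (P : Scheme.{u}) (j : (W y : Scheme.{u}) ⟶ P) (g : P ⟶ X),
      IsOpenImmersion j ∧ IsFinite g ∧ j ≫ g = (W y).ι ≫ f)
    (t : Finset Y) : GenFin ((⨆ y ∈ t, W y : Y.Opens).ι ≫ f) := by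
  classical
  induction t using Finset.induction_on with
  | empty =>
    have : IsEmpty ((⨆ y ∈ (∅ : Finset Y), W y : Y.Opens) : Scheme.{u}) := by
      constructor
      rintro ⟨z, hz⟩
      simp at hz
    exact genFin_of_isEmpty _
  | insert a t hat ih =>
    obtain ⟨P, j, g, hj, hg, hjg⟩ := hW a
    have hUU' : (⨆ y ∈ t, W y : Y.Opens) ≤ ⨆ y ∈ insert a t, W y :=
      biSup_mono fun y hy => Finset.mem_insert_of_mem hy
    have hWU' : W a ≤ ⨆ y ∈ insert a t, W y :=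
      le_biSup W (Finset.mem_insert_self a t)
    refine genFin_step ((⨆ y ∈ insert a t, W y : Y.Opens).ι ≫ f) (Y.homOfLE hUU')
      (Y.homOfLE hWU') ?_ ?_ j g ?_
    · rw [Set.eq_univ_iff_forall]
      rintro ⟨z, hz⟩
      have hz' : z ∈ W a ⊔ (⨆ y ∈ t, W y : Y.Opens) := by
        rw [← Finset.iSup_insert]; exact hz
      rcases hz' with hz' | hz'
      · exact Or.inr ⟨⟨z, hz'⟩, Subtype.ext (by simp)⟩
      · exact Or.inl ⟨⟨z, hz'⟩, Subtype.ext (by simp)⟩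
    · rw [Scheme.homOfLE_ι_assoc]; exact ih
    · rw [hjg, Scheme.homOfLE_ι_assoc]

theorem genFin_of_isAffine {Y X : Scheme.{u}} (f : Y ⟶ X) [LocallyQuasiFinite f]
    [LocallyOfFiniteType f] [QuasiCompact f] [IsAffine X] : GenFin f := by
  have hc : CompactSpace Y :=
    (HasAffineProperty.iff_of_isAffine (P := @QuasiCompact) (f := f)).1 inferInstance
  choose W P j g hyW hj hg hjg using fun y => exists_local_structure f y
  obtain ⟨t, ht⟩ := isCompact_univ.elim_finite_subcover (fun y => (W y : Set Y))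
    (fun y => (W y).isOpen) (fun y _ => Set.mem_iUnion.2 ⟨y, hyW y⟩)
  have h := genFin_iSup f W (fun y => ⟨P y, j y, g y, hj y, hg y, hjg y⟩) t
  have htop : (⨆ y ∈ t, W y : Y.Opens) = ⊤ := by
    rw [eq_top_iff]
    intro y _
    obtain ⟨y', hy'⟩ := Set.mem_iUnion.1 (ht (Set.mem_univ y))
    obtain ⟨hy't, hyW'⟩ := Set.mem_iUnion.1 hy'
    exact (le_biSup W hy't : W y' ≤ _) hyW'
  rw [htop] at h
  intro O hO
  obtain ⟨V, hVO, hVne, hfin⟩ := h O hO
  refine ⟨V, hVO, hVne, ?_⟩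
  rw [morphismRestrict_comp] at hfin
  have hiso : IsIso (⊤ : Y.Opens).ι := by
    rw [← Scheme.topIso_hom]; infer_instance
  have hiso' : IsIso ((⊤ : Y.Opens).ι ∣_ (f ⁻¹ᵁ V)) := inferInstance
  exact (MorphismProperty.cancel_left_of_respectsIso @IsFinite
    ((⊤ : Y.Opens).ι ∣_ (f ⁻¹ᵁ V)) (f ∣_ V)).1 hfin

theorem genFin {Y X : Scheme.{u}} (f : Y ⟶ X) [LocallyQuasiFinite f]
    [LocallyOfFiniteType f] [QuasiCompact f] : GenFin f := by
  rintro O ⟨x, hx⟩
  obtain ⟨O', hO', hxO', hO'O⟩ : ∃ U : X.Opens, IsAffineOpen U ∧ x ∈ U ∧ U ≤ O := by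
    obtain ⟨_, ⟨U, hU, rfl⟩, hx', hsub⟩ :=
      X.isBasis_affineOpens.exists_subset_of_mem_open hx O.isOpen
    exact ⟨U, hU, hx', hsub⟩
  have : IsAffine O' := hO'
  obtain ⟨V', -, ⟨v, hv⟩, hfin⟩ := genFin_of_isAffine (f ∣_ O') ⊤ ⟨⟨x, hxO'⟩, trivial⟩
  refine ⟨O'.ι ''ᵁ V', (O'.ι_image_le V').trans hO'O, ⟨O'.ι v, ⟨v, hv, rfl⟩⟩, ?_⟩
  exact (MorphismProperty.arrow_mk_iso_iff @IsFinite (morphismRestrictRestrict f O' V')).1 hfin

/-- A quasi-finite morphism is finite over a dense open subset of the target. -/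
theorem exists_dense_isFinite {Y X : Scheme.{u}} (f : Y ⟶ X) [LocallyQuasiFinite f]
    [LocallyOfFiniteType f] [QuasiCompact f] :
    ∃ U : X.Opens, Dense (U : Set X) ∧ IsFinite (f ∣_ U) := by
  let 𝒮 : Set X.Opens := {V | IsFinite (f ∣_ V)}
  refine ⟨sSup 𝒮, ?_, ?_⟩
  · rw [dense_iff_inter_open]
    intro O hO hOne
    obtain ⟨V, hVO, ⟨v, hv⟩, hfin⟩ := genFin f ⟨O, hO⟩ hOne
    exact ⟨v, hVO hv, (le_sSup hfin : V ≤ sSup 𝒮) hv⟩
  · apply IsZariskiLocalAtTarget.of_iSup_eq_top (P := @IsFinite)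
      (fun V : 𝒮 => (sSup 𝒮).ι ⁻¹ᵁ V.1)
    · rw [eq_top_iff]
      rintro ⟨z, hz⟩ -
      obtain ⟨V, hV, hzV⟩ := Opens.mem_sSup.1 hz
      exact Opens.mem_iSup.2 ⟨⟨V, hV⟩, hzV⟩
    · rintro ⟨V, hV⟩
      have e : (sSup 𝒮).ι ''ᵁ ((sSup 𝒮).ι ⁻¹ᵁ V) = V := by
        rw [Scheme.Hom.image_preimage_eq_opensRange_inf, Scheme.Opens.opensRange_ι]
        exact inf_eq_right.2 (le_sSup hV)
      have h2 := (MorphismProperty.arrow_mk_iso_iff @IsFinite (morphismRestrictEq f e)).2 hV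
      exact (MorphismProperty.arrow_mk_iso_iff @IsFinite
        (morphismRestrictRestrict f (sSup 𝒮) _)).2 h2

end Groth.Agent.H3.QFin
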